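import Cfsg.Agent.ZStar.Theorem
import Cfsg.Agent.S1249
import Cfsg.Agent.S1250
import Cfsg.Prelude.Def_TwoFusion
import Cfsg.Agent.Eq.Def_TwoFusion

/-!
# A strongly closed 2-subgroup centralizes a disjoint invariant corefree subgroup
-/

set_option autoImplicit false
set_option linter.style.haveILetI false

namespace CfsgLib.ZStar

open Cfsg

universe u

variable {G : Type u} [Group G] [Finite G]

theorem le_centralizer_of_stronglyClosed_aux (T : Sylow 2 G) (A H : Subgroup G) [hH : H.Normal]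
    (hA : IsStronglyClosed A (T : Subgroup G)) (hdisj : A ⊓ H = ⊥) (hO : pPrimeCore 2 H = ⊥)
    (htop : H ⊔ A = ⊤) : A ≤ Subgroup.centralizer (H : Set G) := by
  classical
  set A0 := A ⊓ Subgroup.centralizer (H : Set G) with hA0
  suffices h : A ≤ A0 from h.trans inf_le_right
  by_contra hne
  have hAn : ∀ a ∈ A, ∀ x ∈ A, x * a * x⁻¹ ∈ A := fun a ha x hx =>
    mul_mem (mul_mem hx ha) (inv_mem hx)
  have hdec : ∀ g : G, ∃ h ∈ H, ∃ a ∈ A, h * a = g := fun g =>
    Subgroup.mem_sup_of_normal_left.mp (htop ▸ Subgroup.mem_top g)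
  haveI hA0n : A0.Normal := by
    refine ⟨fun x hx g => ?_⟩
    obtain ⟨h, hh, a, ha, rfl⟩ := hdec g
    have hxH : ∀ y ∈ H, y * x = x * y := fun y hy => Subgroup.mem_centralizer_iff.mp hx.2 y hy
    have h1 : a * x * a⁻¹ ∈ A0 := by
      refine ⟨hAn x hx.1 a ha, Subgroup.mem_centralizer_iff.mpr fun y hy => ?_⟩
      have := hxH _ (hH.conj_mem y hy a⁻¹)
      calc y * (a * x * a⁻¹) = a * (a⁻¹ * y * a⁻¹⁻¹ * x) * a⁻¹ := by group
        _ = a * (x * (a⁻¹ * y * a⁻¹⁻¹)) * a⁻¹ := by rw [this]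
        _ = a * x * a⁻¹ * y := by group
    have h2 : h * (a * x * a⁻¹) * h⁻¹ = a * x * a⁻¹ := by
      rw [Subgroup.mem_centralizer_iff.mp h1.2 h hh, mul_inv_cancel_right]
    rw [show h * a * x * (h * a)⁻¹ = h * (a * x * a⁻¹) * h⁻¹ by group, h2]
    exact h1
  -- an element of `A` whose image is a central involution of `A / A0`
  set B := A0.subgroupOf A with hB
  haveI hBn : B.Normal := hA0n.subgroupOf A
  have hAp : IsPGroup 2 A := T.2.to_le hA.1
  have hQ : IsPGroup 2 (A ⧸ B) := hAp.to_quotient B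
  haveI : Nontrivial (A ⧸ B) := by
    rw [QuotientGroup.nontrivial_iff]
    exact fun h => hne (Subgroup.subgroupOf_eq_top.mp h)
  haveI := hQ.center_nontrivial
  obtain ⟨j, hj⟩ := (hQ.to_subgroup (Subgroup.center (A ⧸ B))).exists_card_eq
  have h2dvd : 2 ∣ Nat.card (Subgroup.center (A ⧸ B)) := by
    rw [hj]
    refine dvd_pow_self 2 fun h0 => ?_
    have := Finite.one_lt_card (α := Subgroup.center (A ⧸ B))
    rw [hj, h0, pow_zero] at this; omega
  obtain ⟨⟨c, hc⟩, hc2⟩ := exists_prime_orderOf_dvd_card' 2 h2dvd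
  rw [Subgroup.orderOf_mk] at hc2
  obtain ⟨⟨a, ha⟩, rfl⟩ := QuotientGroup.mk'_surjective B c
  have hacen : ∀ b ∈ A, b * a * b⁻¹ * a⁻¹ ∈ A0 := by
    intro b hb
    have h1 := Subgroup.mem_center_iff.mp hc (QuotientGroup.mk' B ⟨b, hb⟩)
    have h2 : QuotientGroup.mk' B (⟨b, hb⟩ * ⟨a, ha⟩ * ⟨b, hb⟩⁻¹ * ⟨a, ha⟩⁻¹) = 1 := by
      rw [map_mul, map_mul, map_mul, map_inv, map_inv, h1, mul_inv_cancel_right, mul_inv_cancel]
    exact Subgroup.mem_subgroupOf.mp ((QuotientGroup.eq_one_iff _).mp h2)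
  have haB : a ∉ A0 := fun h => by
    have : QuotientGroup.mk' B (⟨a, ha⟩ : A) = 1 :=
      (QuotientGroup.eq_one_iff _).mpr (Subgroup.mem_subgroupOf.mpr h)
    rw [this, orderOf_one] at hc2
    omega
  have ha2 : a * a ∈ A0 := by
    have h1 : QuotientGroup.mk' B ((⟨a, ha⟩ : A) * ⟨a, ha⟩) = 1 := by
      rw [map_mul, ← pow_two, ← hc2, pow_orderOf_eq_one]
    exact Subgroup.mem_subgroupOf.mp ((QuotientGroup.eq_one_iff _).mp h1)
  -- the image of `a` is isolated
  set f := QuotientGroup.mk' A0 with hf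
  have hfa : orderOf (f a) = 2 := by
    refine orderOf_eq_prime ?_ fun h => haB ((QuotientGroup.eq_one_iff a).mp h)
    rw [pow_two, ← map_mul]
    exact (QuotientGroup.eq_one_iff _).mpr ha2
  set T' := T.mapSurjective (QuotientGroup.mk'_surjective A0) with hT'
  have hT'' : (T' : Subgroup (G ⧸ A0)) = (T : Subgroup G).map f := rfl
  have hiso : ∀ y : G ⧸ A0, y * f a * y⁻¹ ∈ T' → y * f a * y⁻¹ = f a := by
    intro y hy
    obtain ⟨g, rfl⟩ := QuotientGroup.mk'_surjective A0 y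
    rw [← map_inv, ← map_mul, ← map_mul] at hy ⊢
    have hclosed := (Cfsg.Agent.S1250.result T A hA A0).2 (f a) ⟨a, ha, rfl⟩ (f g)
    rw [← map_inv, ← map_mul, ← map_mul] at hclosed
    obtain ⟨a', ha', he⟩ := hclosed (hT'' ▸ hy)
    obtain ⟨h, hh, b, hb, rfl⟩ := hdec g
    have hd : h * b * a * (h * b)⁻¹ * a'⁻¹ ∈ A0 := by
      refine (QuotientGroup.eq_one_iff _).mp ?_
      show f _ = 1
      rw [map_mul, ← he, map_inv, mul_inv_cancel]
    set a1 := b * a * b⁻¹ with ha1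
    have ha1A : a1 ∈ A := hAn a ha b hb
    have hin : h * a1 * h⁻¹ * a1⁻¹ ∈ A ⊓ H := by
      refine Subgroup.mem_inf.mpr ⟨?_, ?_⟩
      · have h3 : h * a1 * h⁻¹ = h * b * a * (h * b)⁻¹ * a'⁻¹ * a' := by rw [ha1]; group
        rw [h3]
        have hdA : h * b * a * (h * b)⁻¹ * a'⁻¹ ∈ A := hd.1
        exact mul_mem (mul_mem hdA ha') (inv_mem ha1A)
      · rw [show h * a1 * h⁻¹ * a1⁻¹ = h * (a1 * h⁻¹ * a1⁻¹) by group]
        exact mul_mem hh (hH.conj_mem _ (inv_mem hh) a1)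
    rw [hdisj, Subgroup.mem_bot, mul_inv_eq_one] at hin
    have h4 : h * b * a * (h * b)⁻¹ * a⁻¹ ∈ A0 := by
      rw [show h * b * a * (h * b)⁻¹ = h * a1 * h⁻¹ by rw [ha1]; group, hin]
      exact hacen b hb
    rw [← mul_inv_eq_one, ← map_inv, ← map_mul]
    exact (QuotientGroup.eq_one_iff _).mpr h4
  have hz := inZStar_of_no_fusion hfa T' hiso
  -- so `a` centralizes `H`
  apply haB
  refine ⟨ha, Subgroup.mem_centralizer_iff.mpr fun h hh => ?_⟩
  let φ : H →* G ⧸ A0 := f.comp H.subtype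
  have hφ : Function.Injective φ := by
    rw [injective_iff_map_eq_one]
    intro x hx
    have h1 : (x : G) ∈ A0 := (QuotientGroup.eq_one_iff _).mp hx
    have h2 : (x : G) ∈ A ⊓ H := ⟨h1.1, x.2⟩
    rw [hdisj, Subgroup.mem_bot] at h2
    exact Subtype.ext h2
  haveI : ((pPrimeCore 2 (G ⧸ A0)).comap φ).Normal := Subgroup.Normal.comap inferInstance φ
  have hle : (pPrimeCore 2 (G ⧸ A0)).comap φ ≤ pPrimeCore 2 H := by
    refine Constrained.le_pPrimeCore_of_not_dvd inferInstance fun hd => ?_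
    rw [← Subgroup.card_map_of_injective hφ] at hd
    exact Constrained.pPrimeCore_not_dvd
      (hd.trans (Subgroup.card_dvd_of_le (Subgroup.map_comap_le _ _)))
  have hmem : h * a * h⁻¹ * a⁻¹ ∈ H := by
    rw [show h * a * h⁻¹ * a⁻¹ = h * (a * h⁻¹ * a⁻¹) by group]
    exact mul_mem hh (hH.conj_mem _ (inv_mem hh) a)
  have h5 : (⟨_, hmem⟩ : H) ∈ pPrimeCore 2 H := by
    refine hle ?_
    rw [Subgroup.mem_comap]
    show f (h * a * h⁻¹ * a⁻¹) ∈ pPrimeCore 2 (G ⧸ A0)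
    rw [map_mul, map_mul, map_mul, map_inv, map_inv]
    exact hz (f h)
  rw [hO, Subgroup.mem_bot] at h5
  exact mul_inv_eq_iff_eq_mul.mp (mul_inv_eq_one.mp (congrArg Subtype.val h5))

/-- A strongly closed 2-subgroup centralizes a disjoint corefree subgroup it normalizes. -/
theorem le_centralizer_of_stronglyClosed (S : Sylow 2 G) (A : Subgroup G)
    (hA : IsStronglyClosed A (S : Subgroup G)) (H : Subgroup G)
    (hAH : A ≤ Subgroup.normalizer (H : Set G)) (hO : pPrimeCore 2 H = ⊥) (hdisj : A ⊓ H = ⊥) :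
    A ≤ Subgroup.centralizer (H : Set G) := by
  set L := H ⊔ A with hL
  have hAL : A ≤ L := le_sup_right
  have hHL : H ≤ L := le_sup_left
  haveI : (H.subgroupOf L).Normal := (Subgroup.normal_subgroupOf_iff_le_normalizer hHL).mpr
    (sup_le Subgroup.le_normalizer hAH)
  have hAp : IsPGroup 2 A := S.2.to_le hA.1
  obtain ⟨T, hT⟩ := (hAp.comap_of_injective L.subtype L.subtype_injective).exists_le_sylow
  obtain ⟨S', hS'⟩ := (T.2.map L.subtype).exists_le_sylow
  have hAS' : A ≤ (S' : Subgroup G) := fun x hx => hS' ⟨⟨x, hAL hx⟩, hT hx, rfl⟩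
  have hA' := Cfsg.Agent.S1249.result S S' A hAS' hA
  have hclosed : IsStronglyClosed (A.subgroupOf L) (T : Subgroup L) :=
    ⟨hT, fun x hx g hg => hA'.2 x hx g (hS' ⟨_, hg, rfl⟩)⟩
  have hdisj' : A.subgroupOf L ⊓ H.subgroupOf L = ⊥ := by
    rw [Subgroup.subgroupOf, Subgroup.subgroupOf, ← Subgroup.comap_inf, hdisj]
    exact Subgroup.bot_subgroupOf L
  have hO' : pPrimeCore 2 (H.subgroupOf L) = ⊥ := by
    rw [← Constrained.pPrimeCore_map (Subgroup.subgroupOfEquivOfLe hHL).symm 2, hO,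
      Subgroup.map_bot]
  have htop : H.subgroupOf L ⊔ A.subgroupOf L = ⊤ := by
    rw [← Subgroup.subgroupOf_sup hHL hAL, Subgroup.subgroupOf_self]
  have h := le_centralizer_of_stronglyClosed_aux T _ _ hclosed hdisj' hO' htop
  intro a ha
  refine Subgroup.mem_centralizer_iff.mpr fun y hy => ?_
  exact congrArg Subtype.val (Subgroup.mem_centralizer_iff.mp
    (h (show (⟨a, hAL ha⟩ : L) ∈ A.subgroupOf L from ha)) ⟨y, hHL hy⟩ hy)

end CfsgLib.ZStar
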